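import Groth.Prelude.Def_PP16
import Groth.Agent.Lib.DiffOp.Coordinates
import Mathlib.RingTheory.FiniteType

/-! Universal property and finiteness of rings of principal parts. -/

set_option autoImplicit false
set_option linter.unusedSectionVars false

universe u v

namespace Groth.Agent.Lib.PP16.Basic

open scoped TensorProduct
open MvPolynomial

variable (n : ℕ) (A B : Type u) [CommRing A] [CommRing B] [Algebra A B]

theorem mk_tmul (b c : B) :
    (Ideal.Quotient.mk _ (b ⊗ₜ[A] c) : _root_.PP16.P n A B) =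
      algebraMap B (_root_.PP16.P n A B) b * _root_.PP16.dn n A B c := by
  change _ = (Ideal.Quotient.mk (KaehlerDifferential.ideal A B ^ (n + 1)) (b ⊗ₜ[A] (1 : B))) *
    Ideal.Quotient.mk (KaehlerDifferential.ideal A B ^ (n + 1)) ((1 : B) ⊗ₜ[A] c)
  rw [← map_mul, Algebra.TensorProduct.tmul_mul_tmul, mul_one, one_mul]

theorem dn_sub_mem (b : B) :
    _root_.PP16.dn n A B b - algebraMap B (_root_.PP16.P n A B) b ∈ _root_.PP16.augIdeal n A B := by
  change Ideal.Quotient.mk (KaehlerDifferential.ideal A B ^ (n + 1)) ((1 : B) ⊗ₜ[A] b) -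
    Ideal.Quotient.mk (KaehlerDifferential.ideal A B ^ (n + 1)) (b ⊗ₜ[A] (1 : B)) ∈ _
  rw [← map_sub]
  exact Ideal.mem_map_of_mem _ (KaehlerDifferential.one_smul_sub_smul_one_mem_ideal A b)

theorem augIdeal_pow : _root_.PP16.augIdeal n A B ^ (n + 1) = ⊥ := by
  rw [_root_.PP16.augIdeal, ← Ideal.map_pow, Ideal.map_quotient_self]

theorem augIdeal_eq_span : _root_.PP16.augIdeal n A B =
    Ideal.span (Set.range fun b : B =>
      _root_.PP16.dn n A B b - algebraMap B (_root_.PP16.P n A B) b) := by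
  refine (congr_arg (Ideal.map _) (KaehlerDifferential.span_range_eq_ideal A B).symm).trans ?_
  rw [Ideal.map_span, ← Set.range_comp]
  refine congr_arg Ideal.span (congr_arg Set.range (funext fun b => ?_))
  change Ideal.Quotient.mk (KaehlerDifferential.ideal A B ^ (n + 1)) ((1 : B) ⊗ₜ[A] b - b ⊗ₜ[A] (1 : B)) = _
  rw [map_sub]
  rfl

section

variable {n A B}

theorem exists_lift {Q : Type v} [CommRing Q] [Algebra A Q] [Algebra B Q] [IsScalarTower A B Q]
    (r : B →ₐ[A] Q) (K : Ideal Q) (hK : K ^ (n + 1) = ⊥) (h : ∀ b, r b - algebraMap B Q b ∈ K) :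
    ∃ f : _root_.PP16.P n A B →ₐ[B] Q, ∀ b, f (_root_.PP16.dn n A B b) = r b := by
  let g : B ⊗[A] B →ₐ[B] Q :=
    Algebra.TensorProduct.lift (Algebra.ofId B Q) r (fun _ _ => Commute.all _ _)
  have hg : ∀ b c, g (b ⊗ₜ c) = algebraMap B Q b * r c := fun b c =>
    Algebra.TensorProduct.lift_tmul _ _ _ b c
  have hI : (KaehlerDifferential.ideal A B).map g ≤ K := by
    rw [← KaehlerDifferential.span_range_eq_ideal, Ideal.map_span, Ideal.span_le]
    rintro _ ⟨_, ⟨b, rfl⟩, rfl⟩
    rw [SetLike.mem_coe, map_sub, hg, hg, map_one, map_one, one_mul, mul_one]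
    exact h b
  refine ⟨Ideal.Quotient.liftₐ _ g fun x hx => ?_, fun b => ?_⟩
  · have h1 := Ideal.mem_map_of_mem g hx
    rw [Ideal.map_pow] at h1
    have h2 := Ideal.pow_right_mono hI (n + 1) h1
    rwa [hK, Ideal.mem_bot] at h2
  · change g ((1 : B) ⊗ₜ b) = r b
    rw [hg, map_one, one_mul]

theorem ringHom_ext {Q : Type v} [Semiring Q] {f g : _root_.PP16.P n A B →+* Q}
    (h₁ : ∀ b, f (algebraMap B _ b) = g (algebraMap B _ b))
    (h₂ : ∀ b, f (_root_.PP16.dn n A B b) = g (_root_.PP16.dn n A B b)) : f = g := by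
  refine RingHom.ext fun x => ?_
  obtain ⟨x, rfl⟩ := Ideal.Quotient.mk_surjective x
  induction x using TensorProduct.induction_on with
  | zero => simp
  | tmul b c => rw [mk_tmul, map_mul, map_mul, h₁, h₂]
  | add x y hx hy => rw [map_add, map_add, map_add, hx, hy]

theorem hom_ext {Q : Type v} [Semiring Q] [Algebra B Q] {f g : _root_.PP16.P n A B →ₐ[B] Q}
    (h : ∀ b, f (_root_.PP16.dn n A B b) = g (_root_.PP16.dn n A B b)) : f = g := by
  refine AlgHom.coe_ringHom_injective (ringHom_ext (fun b => ?_) h)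
  exact (f.commutes b).trans (g.commutes b).symm

end

theorem map_augIdeal_pow {Q : Type v} [CommRing Q] (φ : _root_.PP16.P n A B →+* Q) :
    (_root_.PP16.augIdeal n A B).map φ ^ (n + 1) = ⊥ :=
  (Ideal.map_pow φ _ (n + 1)).symm.trans (by rw [augIdeal_pow, Ideal.map_bot])

/-- Factorisation through the functoriality map of a square whose right arrow is surjective. -/
theorem exists_factor {A' B' : Type u} [CommRing A'] [CommRing B'] [Algebra A' B'] [Algebra A A']
    [Algebra B B'] [Algebra A B'] [IsScalarTower A A' B'] [IsScalarTower A B B']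
    (hsurj : Function.Surjective (algebraMap B B')) {Q : Type v} [CommRing Q]
    (q : _root_.PP16.P n A B →+* Q) (q₁ q₂ : B' →+* Q)
    (h₁ : ∀ b, q (algebraMap B _ b) = q₁ (algebraMap B B' b))
    (h₂ : ∀ b, q (_root_.PP16.dn n A B b) = q₂ (algebraMap B B' b))
    (h₃ : ∀ a, q₂ (algebraMap A' B' a) = q₁ (algebraMap A' B' a)) :
    ∃ f : _root_.PP16.P n A' B' →+* Q, ∀ x, f (_root_.PP16.map n A B A' B' x) = q x := by
  letI : Algebra B' Q := q₁.toAlgebra
  letI : Algebra A' Q := (q₁.comp (algebraMap A' B')).toAlgebra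
  haveI : IsScalarTower A' B' Q := IsScalarTower.of_algebraMap_eq fun _ => rfl
  let r : B' →ₐ[A'] Q := { q₂ with commutes' := h₃ }
  have hr : ∀ c, r c - algebraMap B' Q c ∈ (_root_.PP16.augIdeal n A B).map q := fun c => by
    obtain ⟨b, rfl⟩ := hsurj c
    change q₂ _ - q₁ _ ∈ _
    rw [← h₁, ← h₂, ← map_sub]
    exact Ideal.mem_map_of_mem q (dn_sub_mem n A B b)
  obtain ⟨f, hf⟩ := exists_lift r _ (map_augIdeal_pow n A B q) hr
  refine ⟨f.toRingHom, RingHom.congr_fun
    (ringHom_ext (fun b => ?_) (fun b => ?_) :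
      f.toRingHom.comp (_root_.PP16.map n A B A' B').toRingHom = q)⟩
  · change f (_root_.PP16.map n A B A' B' (algebraMap B _ b)) = _
    rw [_root_.PP16.map_algebraMap, f.commutes, h₁]
    rfl
  · change f (_root_.PP16.map n A B A' B' (_root_.PP16.dn n A B b)) = _
    rw [_root_.PP16.map_dn, hf, h₂]
    rfl

theorem exists_coordinates [Algebra.FiniteType A B] :
    ∃ (r : ℕ) (z : Fin r → B),
      Submodule.span B (Set.range fun i => KaehlerDifferential.D A B (z i)) = ⊤ := by
  obtain ⟨r, g, hg⟩ := Algebra.FiniteType.iff_quotient_mvPolynomial''.1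
    (inferInstance : Algebra.FiniteType A B)
  refine ⟨r, fun i => g (X i), ?_⟩
  rw [eq_top_iff, ← KaehlerDifferential.span_range_derivation A B, Submodule.span_le]
  rintro _ ⟨b, rfl⟩
  obtain ⟨p, rfl⟩ := hg b
  induction p using MvPolynomial.induction_on with
  | C a =>
      rw [SetLike.mem_coe, ← MvPolynomial.algebraMap_eq, g.commutes, Derivation.map_algebraMap]
      exact Submodule.zero_mem _
  | add p q hp hq => rw [SetLike.mem_coe, map_add, map_add]; exact Submodule.add_mem _ hp hq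
  | mul_X p i hp =>
      rw [SetLike.mem_coe, map_mul, Derivation.leibniz]
      exact Submodule.add_mem _ (Submodule.smul_mem _ _ (Submodule.subset_span ⟨i, rfl⟩))
        (Submodule.smul_mem _ _ hp)

theorem finite_P [Algebra.FiniteType A B] : Module.Finite B (_root_.PP16.P n A B) := by
  obtain ⟨r, z, hz⟩ := exists_coordinates A B
  haveI := DiffOp.Coordinates.finite_trunc (B := B) (n := r) (n + 1)
  let g : MvPolynomial (Fin r) B →ₐ[B] _root_.PP16.P n A B :=
    (Ideal.Quotient.mkₐ B _).comp (aeval (DiffOp.Coordinates.xi A z))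
  have hg : ∀ p ∈ idealOfVars (Fin r) B ^ (n + 1), g p = 0 := fun p hp =>
    Ideal.Quotient.eq_zero_iff_mem.2 (DiffOp.Coordinates.aeval_xi_mem hp)
  refine Module.Finite.of_surjective (Ideal.Quotient.liftₐ _ g hg).toLinearMap fun y => ?_
  obtain ⟨y, rfl⟩ := Ideal.Quotient.mk_surjective y
  obtain ⟨p, hp⟩ := DiffOp.Coordinates.exists_poly hz (n + 1) y
  exact ⟨Ideal.Quotient.mk _ p, (Ideal.Quotient.eq.2 hp).symm⟩

end Groth.Agent.Lib.PP16.Basic
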